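import Cfsg.Agent.Helper19.TCR.StaticDefs

set_option autoImplicit false
set_option linter.all false
set_option maxRecDepth 1000000
set_option maxHeartbeats 0

namespace Cfsg.Agent.Helper19.SpK

open Cfsg.Agent.Helper19.TCS

noncomputable def col0 : Tr Nat := (.nd (.nd (.lf (nat_lit 0x430647ed8858f91b191eb841a3c7243476e4068ea0d191cc4c3238888646f0c0c8d9bf0d1ac0832346982c668a0c8c9241918b701a3081c645ecf058b9cc0d16b781a2c6f83456fe8c8a9a50b14a1a3228470644ee0868990a1912a12322483064470c8c8899d0b10b6a1a20454643e8f0c87911190ec0c321c6f43436cd85869b40d0ca1c3218474642e840c8599c0b0ac16321465424268b0c849101908b341610814641eca048390f1906a0e320c64824165786829051904b2612082b8340e830c818ad0d0295616042b0340655058088319009043200)) (.lf (nat_lit 0xa7c667f568ccfa5e199ed36333cbb82e77630cceab3199cd4a3338b78266f560ccdac5199adce1734ab86666948ccca8d1998cca3330af4665f260ccbace1996d7e332c6b82e56f306caa3a1994d743328a54664f798cc9a851992ce633248c46647360cc8ac31990cf03320974663f460cc7a4f198edd6171c4a86637538cc6ab5198cb561718734362f6f84c5a6b198abce1b14b902e27610cc4a391988b4e171072c361eed86c3a301986c90330c8b066173f8cc2a2d1984bb21b08a5c660f2a8cc1acb1982d90330491466070a0cc09d30d80c3c3300))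 (.lf (nat_lit 0x0)) (.lf (nat_lit 0x0))) (.nd (.lf (nat_lit 0xa8864ff340c9fa02193ec40327cb802cf71e8c9ea5a193cb9c1a786642cee890c9d9a30b3aa4e327479434e6dd069ca921938c12327048464df470c9ba401936c92326c45c64d7140c9aa6f1934cd432687fc64cf0d8c99ae30b32c68326494864c6e886989980b30a1632606802cbe928c979e10d2eb861a5c8d864b7148c96a62192cc1c32588b864af118c95a42192ac2e325488464a76c0494a031928c7c32506a42c9e898c939b20b26a46324c6e43497318c92a081924a4432488fc648ecf85919c70d22c343244b642486ff0c90a351920b481640)) (.lf (nat_lit 0xbec66ff7f0cdfaf619bedf8337cc0066f77a0cdeaed0bbce023378bfc66ef7b8cddaf519badde1774a6466e7450cdcab919b8cae3370bc02edf608cdba8219b6df2336ca6866d7520cdaaec0bb4dcc1768af066cf5c0cd9a4d19b2de21764af866c7518cd8a8719b0d763360be066bf7e8cd7a8619aecee335ca2c66b7270cd6af219acd4c3358ad866af418cd59a80baadd41754ac866a77285d4a8819a8b5a1750770369f3a8cd3a8919a6cec334cb1066973a0cd2a9619a4cac3348b34668f600cd1a8119a2d92334499066877d0cd0a9019a0ce43340)) (.lf (nat_lit 0x0)) (.lf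 (nat_lit 0x0))) (.lf (nat_lit 0x950657f220cafa15195ecf832bc80465770f8caeae10b5cce032b8a84656f2c8cad9b70d5acc032b473c3566cb85aca471958bbc1ab06bc2d5e940cab9bb0d56d5e32ac7603557050caaa7a1954a4032a8758354f338ca9a411952d9432a492865468c0ca8a271950c7832a0aa8653f348ca7a00194ec38329c89465377405a6a7e194cc6632989b8652f288ca59b60d4acb6329475c3526cb05a49c00d48ba41a906b02d1e930ca39c40d46d60328ca3c65171b8ca2a9d1944c543288984650f078ca19a20b42d3832848906507298ca0a431940c2c3280)) (.lf (nat_lit 0xa4465ff7105bfa71197ed4032fcaa065f7090cbea5f197ccb032f8b7025ef230cbdab4197abbe1af4a4c65e6f106bc9b00b78c2632f0b7425df5b8cbba9e1976cf632ec47c65d6ea86baa661974cfa32e892c65cf660cb99b30b72a3232e471835c71d8cb89dd0d70d5232e087465bf558cb7a94196edd216dca1065b7190cb6a6d196ccf232d884465af2e0cb5a50196adb612d446865a6f186b49e00d68ba81ad0790359ed505b39c50d66db412ccac46597400cb2a381964b941ac88bc658f158cb19d00d62c2032c46842d86ed06b0a981960d8e32c0)))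

end Cfsg.Agent.Helper19.SpK
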