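import Cfsg.Agent.Helper19.TCR.StaticDefs

set_option autoImplicit false
set_option linter.all false
set_option maxRecDepth 1000000
set_option maxHeartbeats 0

namespace Cfsg.Agent.Helper19.SpK

open Cfsg.Agent.Helper19.TCS

noncomputable def col1 : Tr Nat := (.nd (.nd (.lf (nat_lit 0xc0068797c008113800005c2c03c60160889800002c05102550283ca800408880c8110800005005e049e004087c000026161023b000009214c09180f0f22801021b02c3c340000104160f200010218000007a16408e884240e801021601e042a00000d80c0f1a80102130000064130884884811280b0210000005805c08ac0081070000028094441a0000090070f11801020b0000040134087800810480a1e1c0020410000006425810b80102060000028110881c000008800000f08a041400000302111018041e02086040a01408100081000000001)) (.lf (nat_lit 0x5c6066c9f93484b7118f86822f900205ee1788bd89481a9b22af5a00002d2b8a4cfca881a208502ef07e05dc0040bad7081a080102e900002ce0000595eb11a3aa0554607605ca54abc5131248880001600703dbb67c0d656e49a500102db27a061ab6c0c553f819f26a491a2de067a1988b5932817980102d40ac45a69ac0c800000ab864235500205a000005516d4991153032a0f445981007b2d318194863035004a069e0040b209e4b91861034d04206980040b180000a580102c200002920c40b01512a730361f45002057c4e40bc16f816896a22df))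 (.lf (nat_lit 0x0)) (.lf (nat_lit 0x0))) (.nd (.lf (nat_lit 0x1004578004094c24815c10a48a50d444a4020794400005b06d02b30203d64004093814812680000ae0243d5a004092c38112525b029e00001501c88a9800812380000a30aa049000002803f814f801024408e0532000026c3a11218061e42000012c1dc0a4c060f49001023f036047c00002380e0f46801023c0000114000022037114380102390ba0502000020c28111c015023700000fc1ac09ec04813d001023405c3c6600001d8140f3a801023100000e41c409c4008117854226b00000da14888b80f811680000680ea04ca01c099000811502d0229)) (.lf (nat_lit 0xb4606f4acc0deed481bc5a50375564d6fd688f5fc0081b45a8617db4e06d96b40d7ed21ebe00103524f89adc9e9358de911b580103487aa06c89f40dcd4e81ab5a655777a606e2a79558800819b8000179002065ef408d6c0081973d4236f4f606e4a7c0da93381a88010328b58eaed680f508b10fa726849587a206ccc8c0ce2cf1e93269035c0020632a7155b432818c0010316250ea7200005d13324b086223100483e1e58c0d743011860201f0b0020612b740c9400818380001707ae065aa840cb01b8182150af3506605ff6840d7970499880102fd)) (.lf (nat_lit 0x0)) (.lf (nat_lit 0x0))) (.lf (nat_lit 0x20504000040d4d816d081027f244d53a5b40ba000007f048227d10c45f800409e56c816280000f80d844f004409dc00007a88902f207a05e200409d009813980000ed5ad252a9740b812f2443001026f00001d41cc09b885813e02a1ee700204d800003902d8171001026a0fc44d296921c091815d84f02de00204cc0000370231133a764c800f845b2004098d6b815580000d50ec44c4034098400006907902cf0683d9c00409780e812e80000ca04c3d92004096c110f63801025a0de04b297c0aa400006188222c100204ac00002fc2e112ba770298))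 (.lf (nat_lit 0x643e860040ae40000a008702b74f099b04c9fb5c34819e00102b4000027617c0ce8008158ae492e14c8923a2208ac01e0f57938970210846680f87ccc00815626048c400002640040a9c00009816c22ba0560548a8c0c141d0f9580102a2276059a1688a8572817a25c48aa2d606001388a701c8193801029a0000248a6952f43e814ba7902fb26605f419c0c7800814a000011c0ae06360040a456f498080001170f045200d40a3c9d4b7187b031308206240040a30138145800010e046051200004296c495aa6102ec002050a00004204181420301f06)))

end Cfsg.Agent.Helper19.SpK
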