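import Cfsg.Agent.Helper19.TCR.StaticDefs

set_option autoImplicit false
set_option linter.all false
set_option maxRecDepth 1000000
set_option maxHeartbeats 0

namespace Cfsg.Agent.Helper19.SpK

open Cfsg.Agent.Helper19.TCS

noncomputable def col2 : Tr Nat := (.nd (.nd (.lf (nat_lit 0x20450754093400002f001022600000b600001680081119d7022e00000ac95c08b0000029801022039c5452000013800810f000004b0020438758b8e0000023a563e3600000880040864e78119800003f002042e00000f087811210e4e25000007200408505c150a8000034002042400000c4008108800002f002041e2d8a840000015001020d000004e00408305c811080000220020414000007c00000e8b7021a0000036004081c00000c0000016002040a000004c0081020010203000001c0040808000005800000900000100000018015e000030201)) (.lf (nat_lit 0x205f852274cc00817c800016b5109ebca916d2c00817a000016a00205e44c1f55c0081770000168292067c7ac0c6c0081752e7034300205d00040b9df917a3800016300002c49d12d1000817100102de5d206920040b705d816eac2734000205b40040b64a54e8927102f500205ac000056c00816a80001593d45e640040b4800816880001564de05f00040b3c0000a980102cb00002a452c0c84008164a804f0c00002a2a1c0bb4008163a810310000029c9c92b28008161800014a0020582000052000815f8c02ac03b605ec0040af400815e00102ba)) (.lf (nat_lit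 0x0)) (.lf (nat_lit 0x0))) (.nd (.lf (nat_lit 0x3cc5d6e4413aa400005d801025100001729b12a800081279dc2e5200001687340ab8000058801024c3a4551200002b000005580102490020490000029c000052801024600001440040914f2174b800009e000013a004090800004d00000980020480780b90c00004a1cb028e000012200408f45e1545800008c002047600408e8ef81250000086000010a00408dc0000410000080002046a77409e000003e2583e4100000f200408c8ea151f00000740020460778b964000038000006f002045a00001b0000035001022b3c204c400001992c81280000063)) (.lf (nat_lit 0x206f20040dddf781bb001037400206de0040da40000bf801036400002fcfb8bdf40081aa000017c00206a00040d35f615b32824f5500002f60040d180081a2bf02f5f00206780040ce00000bd00103345d52ac0fb40dc5764cad000017800206580040cace815aeaeb03677e206d8a240cece881b0a844f4c002063cbb40d9400818e1449d4f262066c0040c614181b80000175002062a0040c4c008187800017328a06b00040c2c0000b9285035c54a06740040c21744a9380103067e6065a00005b80000b6a75032a5cd2a600040bf85f817fac30324)) (.lf (nat_lit 0x0)) (.lf (nat_lit 0x0))) (.lf (nat_lit 0x20a0040a04000081000010100204fa000040000813d80000fd3ce04fe00003ec00007d001027700001ee5040b1000813a9e902ef00001e6730a9d8000078001027200204e24fa724888813f00000eb00204dc00003a40081368c302e500001cc00409ac000071a6d027a00001c200409a000813380000df2189506004099400006d80102643ca04d2000036000006b801026100001a84fc0aa800812f9e302cc00001a0728a980000066801025c17a04ba0000320e9813980000c6000018a004096000812b80000c221a0536004095400005f0010254))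 (.lf (nat_lit 0x17c5682000050800815c000013f002056c0040ad400009ea6e4b170020566768bc0d3825900000139002055e00004dca3817000102ad3d05d6000004d54327871429cce002055000004c4008153000012f000025c0040a8c6115521d902d3002054200004a400814f9469cf1002053800004a05d159280001260020532000048c0000910010296002052a000047c00008e80102933b05dc8000046800008c801028f000022c50c0bb00081469e22e9000002289cc0c28000088801028a000021a0040a200081439409cb200002120040a100000838c10304)))

end Cfsg.Agent.Helper19.SpK
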