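import Cfsg.Agent.Helper19.TCR.StaticDefs

set_option autoImplicit false
set_option linter.all false
set_option maxRecDepth 1000000
set_option maxHeartbeats 0

namespace Cfsg.Agent.Helper19.SpK

open Cfsg.Agent.Helper19.TCS

noncomputable def col3 : Tr Nat := (.nd (.nd (.lf (nat_lit 0xc2004089c00002f800005d13c4c4c4d210c064812b0990257002044400001500081100000051002043e000013c000026935023a18e048e26c092000810d80000450020432000010800810c0000040000007c27c08ec00810b113021d002042800000dc008109800003500000664a9e05c892812001020f000005a00408380000158000029256043c0000094008105800002300000424da38348b32060010208000003800000689b81091170211000002a230981462810300000101144c06310b0244681050010201116040e00408000000020000002)) (.lf (nat_lit 0x598f268a4c0d618750801a902fc62d4292c4285698d81ab99426f659cf2502b89bbc6516782cd033f00205da5a085416381a0313031c5a2062c36c0d8c5a81b200102e600205c80040b8c0000b0acf033700205b8000057800816dab7034a00002bab11e44c5513ae00102d861941be6909b6547817ab12a13032c4eaaa440bed8c50a999026d32ca05a4b41e4bc5313660d22ccd58a06440040b286b81a892502eb0020590000053c6a81a712d0309002058c0000530963c86314a0ea594f1ee0040afc0000a300102be000028a00005115e3767b0f033d))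 (.lf (nat_lit 0x0)) (.lf (nat_lit 0x0))) (.nd (.lf (nat_lit 0x31c4d7447c0a944881290cf02531460570004094070815a09626b5002049c00002c800812600000af002049600002b4d1135300000a954cb90a68099288c322480000a41384c8ca314200c6134e121029b11e0486330b11054814c80102411ba05282509a5400811f8000092002047a000023c00811e000008d00001160000224cf814211b02831304c70320b0e4508140801023619c58f824099f400811a000007a002046400001dc008118800007500000e668409b88c813689a262e18c585e27409ac0081160cd026611c4cce00408a80000320010228)) (.lf (nat_lit 0x53206f96a9bdf6d581bf298517fb5e06f0a5c0dd5f413b8dae797b1604ebefac0db14b28bd3e6276655606e0ab99595f481bcaaa5d73166068e378b5215832b53ea27767c84ed0ac40db58e50b03e5036b63e06a8f9c0dd15781b90b4272d1b45a5cab40d58008194b1d036916206ee0040c980081918ab03217c44ea4c440ce94a81a1292513e6354272ab17588cb818db1ea1676320632f8c0d6c6b16889690332002061c350b434b381a5801030a2cc429aad9bc918b819d8df036e1644ede0040c14008181801030200205fca51456400817eac67931)) (.lf (nat_lit 0x0)) (.lf (nat_lit 0x0))) (.lf (nat_lit 0x20c00004114581509a702e861605f463c09fc00007f8a2267b3344df253ab3e04b813c0e02c7956a058a00409d86c81798ad02f400204e800003c400813900000ee570dd2624c0bb00081382a902c35aa058468c09c48f323f001026c00001ce000039545285e91d029835605bc451421984816b98d0269240c8d0000037454133291c64a03304dac532b3544a81310dc2c63572055600409806881680a502d100204bc000033800812e00000cb00204b6000032400812d00000c733a05824540a7953813799e2659234c8b0000030050132aa8d026a))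 (.lf (nat_lit 0x20572000050c0000a09a8273c520a234c2a82eccd815b94f02b6596060e6540ce147288e8ac26b01b05962aec0b840081570cb033515e066c0040ab000009989226aa248de20c540c21643c6a1a626bc002054600004b0008151000012b00002546489b695d377918a26c461a063e6a89a7c00814d0000127000024a64c0b88d2818f0000120611413a6640a5ca6814b2c902e93220630590845c5213480d02c9157a06020040a3869818a0a7031500205180000448008145000010f0020510000042d5a375998b02e0550b950b52129cce13438010282)))

end Cfsg.Agent.Helper19.SpK
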