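import Cfsg.Agent.Helper19.TCR.StaticDefs

set_option autoImplicit false
set_option linter.all false
set_option maxRecDepth 1000000
set_option maxHeartbeats 0

namespace Cfsg.Agent.Helper19.SpK

open Cfsg.Agent.Helper19.TCS

noncomputable def col4 : Tr Nat := (.nd (.nd (.lf (nat_lit 0xc470c0974be812e0f63027002044a004089000002c801022200000ae0000154db8127800005237050425c89080781825801021d0000094004086c000024000004636a0480000010cd9140d17024191ee0478004085800001d800003a358503800000e0dc811997302321d4602600408440000181ad0223000005c6cc08a4b881140e4300e00204180000098d81408174240f1d6043e004082400000f1b102152ea0428394086000810300000171c6041000408100000090e2300b00204040000034008100800000a0020400000001c0000028000003)) (.lf (nat_lit 0x40a06660040bec77187d00102f87b84ad20040bd48118b500102f340461ee0040bb8de14a280102ed408627e620953cfd18a898503671fc61d20000598008173000016438206287240b957c4d7ea0031075ed3686000057cdf81ae980250d1f605b67cc0c4800816c000015c1d861ae0040b540000ad3da255400205a400005608018ab00102d000002aa7f0c3500081659c0292b00205947c8c4896981a000102c824ce1d60000540c0819200102c625cf612000053497818597e24c34020650bca6b9c0000a39c703442f049e03cc0af8fb18670e830bb))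 (.lf (nat_lit 0x0)) (.lf (nat_lit 0x0))) (.nd (.lf (nat_lit 0x204a600002f000812880000ba00204a000002e000005b801024e000016a00002ccd7145680000b0388509a5dc093000812480000aa1fa054e004091c0000532ef0282002048a0000284008122000009f002048400002700081208000099000012e00408fc00004a8000093376051a0000240e1141f17c243d3e060b47c4096c00811c8000087002046e000021000811b000008100000fe00408d000003e800007b36c506a00001e0e2813997624721e2046200408bc000038801022d00000dc00408b000003580000690020454000019c0000329b4282b)) (.lf (nat_lit 0x7ee06f6fd0c5e80081babf903787ec62fefd40df9f012b73f8317c00206bc0040d640000bebde256360606d0bf40d480081a43049b6b002068cf840de4fc81ab801034260a06e040c0ce5ee819db029b733084a600040cb99081ad801032c7be06e881c0d4d7d81a0b009b49002064c00005dcdf1492801032064152ca0040c740000bb001031a3f062da4040c6400818bbdb031c40c62c4bf26dc8fd8198801030e31206647d0c528008185187034b30c4a987d40d398081b00000171002060a00005bcde819a9c629045ee064e00005b17d4db0ad27b11)) (.lf (nat_lit 0x0)) (.lf (nat_lit 0x0))) (.lf (nat_lit 0x5e135463c8c408008140001027e1d2060000409f17a814d001027a00204f200003f000813b80000f900204ec7bc0b1400007b001027400001e800003c8d7813a80000ef3d8612400409c000007618302ea1f860de00409b40000743069ac05e2057e3d40b8c00813500000e200204d0000038073816f801026600001bcbd26ae400813200000da00204c6000036400813080000d600204c07b40aac000069801025e00001a2000033cdd142f80000cc3fe0512af9c220ff1845abf028a00204b000003107c816100102560000182bba69b000812a00000bd))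 (.lf (nat_lit 0x5fe05baf640b717c819480102b6000027c3bc0cf400815a000013c406066e0040ac400009d00102af00002700040ab90481709790303002055800004d800009a00102a924e061e60892a07f819780102a55e6060c00004b4e4149517b02cd1e861440040a81041878801029e1cc613a0040a6d7f4d7fbd824fe1f462460040a6000814b00001211da063e0040a5000008f1fd03160020522000046c0081478000118002051c7dc0c04bd1272001028c000022a000044d603863800011058205920000430f7185900102862fe06103e0c214008141b0702a4)))

end Cfsg.Agent.Helper19.SpK
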