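import Cfsg.Agent.Helper19.TCR.StaticDefs
import Cfsg.Agent.Helper19.SpK.Col0
import Cfsg.Agent.Helper19.SpK.Col1
import Cfsg.Agent.Helper19.SpK.Col2
import Cfsg.Agent.Helper19.SpK.Col3
import Cfsg.Agent.Helper19.SpK.Col4

set_option autoImplicit false
set_option linter.all false
set_option maxRecDepth 1000000
set_option maxHeartbeats 0

namespace Cfsg.Agent.Helper19.SpK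

open Cfsg.Agent.Helper19.TCS

noncomputable def colF (l : Nat) : Tr Nat := Nat.rec (motive := fun _ => Tr Nat) col0 (fun l _ => Nat.rec (motive := fun _ => Tr Nat) col1 (fun l _ => Nat.rec (motive := fun _ => Tr Nat) col2 (fun l _ => Nat.rec (motive := fun _ => Tr Nat) col3 (fun l _ => col4) l) l) l) l
noncomputable def ent (i l : Nat) : Nat := Nat.mod (Nat.shiftRight (Tr.get (colF l) (Nat.div i 64)) (Nat.mul 27 (Nat.mod i 64))) 134217728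
noncomputable def ptree : Tr Nat := (.nd (.nd (.lf (nat_lit 0x2140189c044e0426041282090084608220311008880c400420030f8087c083c081d020e0206c0c36021b030c810640c300218020b820580c2c0216030a010500c2602130209020440822060f020781838041c040d0406010300c16020b0205020240412060801040101c100c0206020282010080804030401010081002060104000180004000000)) (.lf (nat_lit 0x27e023ec09f208f8017b823d409e808f30279023b809dc08ed037680bac09d402e902740139c11cc06e6037201b8c09c404de036e013700db602db026d0136411b006d8026b0235409aa02d404690134809a208d001680133c119604cb046501b28099208c8036400b20098e08c6036300b18098602c2026081afc097e06be015f012f4097804ba)) (.lf (nat_lit 0x0)) (.lf (nat_lit 0x0))) (.nd (.lf (nat_lit 0x4298094c10a20451042801940089e084e0327009380c98044c03258092c1092044902240211c048e044604228111410880244042101108108206410220020fc0c7e023f031e810f40c78023c021d810e810720239041b810dc106c0636021a820d00c6802340319010c80c6202310218020bc045e082d0216820b00c58042b0415018a804540628))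 (.lf (nat_lit 0x2bc815dc12ea057402b7815a406d0056404af025640aa8035202a8015341290034804a3015180a8a0942029e014e0066e05340197824b8065c092c0296014ac0e520328049301c980e460920028f024740a38091a018c81460122e0316028a8144c0a1e090e03870142c1214070a018481420060e0506048281c140e060702037f013f80dfa02fd)) (.lf (nat_lit 0x0)) (.lf (nat_lit 0x0))) (.lf (nat_lit 0x141012041100087e023e821f008f6087a043c809e410ee0477043b019d808ea0874033a009d00ce404720238821c00ce0026f0237021b408da066c0136011ac10d4026a0434011a008ce086601330119410c8046404318098c10c2046104300198008be085e032f009780cb8045c032d8096c0cb4025a042c0116008ae0856012b0115410a80454)) (.lf (nat_lit 0x35c80ae4097008b6025b012d4116802b40259822c4056208af0257822b80d5c04ad045601ab0055808a9025400a9c094c08a503518128c0d4402a2025082280093e089e024e0226c0d34029a024c82260112c0496024a8225005280493044880a44111e048f044701a38091a088c034600a300d14048a034401220090e088601428121011060682)))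
noncomputable def pent (i : Nat) : Nat := Nat.mod (Nat.shiftRight (Tr.get ptree (Nat.div i 64)) (Nat.mul 17 (Nat.mod i 64))) 131072
noncomputable def parF (i : Nat) : Nat := Nat.mod (pent i) 512
noncomputable def pletF (i : Nat) : Nat := Nat.div (pent i) 512
noncomputable def invF (l : Nat) : Nat := Nat.rec (motive := fun _ => Nat) 0 (fun l _ => Nat.rec (motive := fun _ => Nat) 1 (fun l _ => Nat.rec (motive := fun _ => Nat) 2 (fun l _ => Nat.rec (motive := fun _ => Nat) 3 (fun l _ => 4) l) l) l) l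
noncomputable def rotT : Tr (List Nat × Nat) := (.nd (.nd (.nd (.nd (.lf ([0], 0)) (.lf ([2, 1, 2, 4, 3, 2, 1, 2, 3, 4, 2, 1, 2, 3, 4, 2, 1, 2, 4], 3)) (.lf ([], 0)) (.lf ([], 0))) (.nd (.lf ([1, 4, 1], 4)) (.lf ([2, 4, 2, 3, 1, 2, 1, 2, 4, 2, 3, 1, 2, 1, 2, 4, 2, 1, 3, 2], 1)) (.lf ([], 0)) (.lf ([], 0))) (.lf ([2, 0, 1, 2, 1, 2, 1, 2, 1, 2], 1)) (.lf ([1, 2, 1, 2, 3, 2, 1, 2, 1, 2, 3, 2, 1, 2], 3))) (.nd (.nd (.lf ([4], 4)) (.lf ([3, 2, 1, 2, 3, 4, 2, 1, 2, 3, 4, 2, 1, 2, 4, 3, 2, 1, 2], 4)) (.lf ([], 0)) (.lf ([], 0))) (.nd (.lf ([2, 3, 2, 3, 2], 3)) (.lf ([1, 2, 1, 2, 4, 2, 3, 1, 2, 1, 2, 4, 2, 1, 3, 2, 1, 2, 4, 2], 3)) (.lf ([], 0)) (.lf ([], 0))) (.lf ([2, 3, 2, 1, 2, 1, 2, 3, 2, 1, 2, 3, 1, 2], 1)) (.lf ([3, 4, 2, 1,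 2, 3, 4, 2, 1, 2, 4, 3, 2, 1, 2, 4, 3, 2, 1], 2))) (.nd (.nd (.lf ([0, 2, 0], 2)) (.lf ([1, 2, 4, 2, 1, 3, 2, 1, 2, 4, 2, 3, 1, 2, 1, 2, 4, 2, 3, 1], 2)) (.lf ([], 0)) (.lf ([], 0))) (.nd (.lf ([2, 1, 2, 1, 2, 1, 2, 1, 2, 0], 1)) (.lf ([4, 2, 3, 1, 2, 1, 2, 4, 2, 1, 3, 2, 1, 2, 4, 2, 3, 1, 2, 1], 2)) (.lf ([], 0)) (.lf ([], 0))) (.lf ([2, 1, 2, 3, 2, 1, 2, 3, 1, 2, 1, 2, 3, 2], 1)) (.lf ([2, 3, 4, 2, 1, 2, 4, 3, 2, 1, 2, 4, 3, 2, 1, 2, 3, 4, 2], 1))) (.nd (.nd (.lf ([0, 4, 0], 4)) (.lf ([1, 3, 2, 1, 2, 4, 2, 3, 1, 2, 1, 2, 4, 2, 3, 1, 2, 1, 2, 4], 2)) (.lf ([], 0)) (.lf ([], 0))) (.lf ([2, 1, 2, 1, 2, 0, 1, 2, 1, 2], 1)) (.lf ([2, 1, 2, 3, 1, 2, 1, 2, 3, 2, 1, 2, 1, 2], 3)) (.lf ([1, 2, 4, 3, 2, 1, 2, 4, 3, 2, 1, 2, 3, 4, 2,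 1, 2, 3, 4], 2)))) (.nd (.nd (.nd (.lf ([1], 1)) (.lf ([1, 2, 4, 3, 2, 1, 2, 3, 4, 2, 1, 2, 3, 4, 2, 1, 2, 4, 3], 2)) (.lf ([], 0)) (.lf ([], 0))) (.nd (.lf ([4, 3, 4], 3)) (.lf ([4, 2, 3, 1, 2, 1, 2, 4, 2, 3, 1, 2, 1, 2, 4, 2, 1, 3, 2, 1], 2)) (.lf ([], 0)) (.lf ([], 0))) (.lf ([0, 1, 2, 1, 2, 1, 2, 1, 2, 1], 2)) (.lf ([2, 1, 2, 1, 2, 1, 2, 1, 2, 1, 2, 1, 2, 1, 2, 1, 2, 1, 2], 1))) (.nd (.nd (.lf ([1, 0, 1], 0)) (.lf ([2, 1, 2, 3, 4, 2, 1, 2, 3, 4, 2, 1, 2, 4, 3, 2, 1, 2, 4], 3)) (.lf ([], 0)) (.lf ([], 0))) (.nd (.lf ([4, 2, 4, 2, 4], 2)) (.lf ([2, 1, 2, 4, 2, 3, 1, 2, 1, 2, 4, 2, 1, 3, 2, 1, 2, 4, 2, 3], 1)) (.lf ([], 0)) (.lf ([], 0))) (.lf ([3, 2, 1, 2, 1, 2, 3, 2, 1, 2, 3, 1, 2, 1], 2)) (.lf ([4, 2, 1, 2, 3, 4, 2, 1,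 2, 4, 3, 2, 1, 2, 4, 3, 2, 1, 2], 3))) (.nd (.nd (.lf ([3, 0, 3], 0)) (.lf ([2, 4, 2, 1, 3, 2, 1, 2, 4, 2, 3, 1, 2, 1, 2, 4, 2, 3, 1, 2], 1)) (.lf ([], 0)) (.lf ([], 0))) (.nd (.lf ([1, 2, 1, 2, 1, 2, 1, 2, 0, 1], 2)) (.lf ([2, 3, 1, 2, 1, 2, 4, 2, 1, 3, 2, 1, 2, 4, 2, 3, 1, 2, 1, 2], 4)) (.lf ([], 0)) (.lf ([], 0))) (.lf ([1, 2, 3, 2, 1, 2, 3, 1, 2, 1, 2, 3, 2, 1], 2)) (.lf ([3, 4, 2, 1, 2, 4, 3, 2, 1, 2, 4, 3, 2, 1, 2, 3, 4, 2, 1], 2))) (.nd (.nd (.lf ([3, 1, 3], 1)) (.lf ([3, 2, 1, 2, 4, 2, 3, 1, 2, 1, 2, 4, 2, 3, 1, 2, 1, 2, 4, 2], 1)) (.lf ([], 0)) (.lf ([], 0))) (.lf ([1, 2, 1, 2, 0, 1, 2, 1, 2, 1], 2)) (.lf ([1, 2, 3, 1, 2, 1, 2, 3, 2, 1, 2, 1, 2, 3], 2)) (.lf ([2, 4, 3, 2, 1, 2, 4, 3, 2, 1, 2, 3, 4, 2, 1, 2, 3, 4, 2],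 1)))) (.nd (.nd (.nd (.lf ([2], 2)) (.lf ([2, 4, 3, 2, 1, 2, 3, 4, 2, 1, 2, 3, 4, 2, 1, 2, 4, 3, 2], 1)) (.lf ([], 0)) (.lf ([], 0))) (.nd (.lf ([3, 4, 3], 4)) (.lf ([2, 3, 1, 2, 1, 2, 4, 2, 3, 1, 2, 1, 2, 4, 2, 1, 3, 2, 1, 2], 4)) (.lf ([], 0)) (.lf ([], 0))) (.lf ([2, 1, 2, 3, 2, 1, 2, 1, 2, 3, 2, 1, 2, 3], 1)) (.lf ([1, 2, 1, 2, 1, 2, 1, 2, 1, 2, 1, 2, 1, 2, 1, 2, 1, 2, 1], 2))) (.nd (.nd (.lf ([0, 1, 0], 1)) (.lf ([1, 2, 3, 4, 2, 1, 2, 3, 4, 2, 1, 2, 4, 3, 2, 1, 2, 4, 3], 2)) (.lf ([], 0)) (.lf ([], 0))) (.nd (.lf ([2, 4, 2, 4, 2], 4)) (.lf ([1, 2, 4, 2, 3, 1, 2, 1, 2, 4, 2, 1, 3, 2, 1, 2, 4, 2, 3, 1], 2)) (.lf ([], 0)) (.lf ([], 0))) (.lf ([2, 1, 2, 1, 2, 3, 2, 1, 2, 3, 1, 2, 1, 2], 3)) (.lf ([2, 1, 2, 3, 4, 2, 1, 2, 4,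 3, 2, 1, 2, 4, 3, 2, 1, 2, 3], 4))) (.nd (.nd (.lf ([0, 3, 0], 3)) (.lf ([4, 2, 1, 3, 2, 1, 2, 4, 2, 3, 1, 2, 1, 2, 4, 2, 3, 1, 2, 1], 2)) (.lf ([], 0)) (.lf ([], 0))) (.nd (.lf ([2, 1, 2, 1, 2, 1, 2, 0, 1, 2], 1)) (.lf ([3, 1, 2, 1, 2, 4, 2, 1, 3, 2, 1, 2, 4, 2, 3, 1, 2, 1, 2, 4], 2)) (.lf ([], 0)) (.lf ([], 0))) (.lf ([2, 3, 2, 1, 2, 3, 1, 2, 1, 2, 3, 2, 1, 2], 1)) (.lf ([4, 2, 1, 2, 4, 3, 2, 1, 2, 4, 3, 2, 1, 2, 3, 4, 2, 1, 2], 3))) (.nd (.nd (.lf ([1, 3, 1], 3)) (.lf ([2, 1, 2, 4, 2, 3, 1, 2, 1, 2, 4, 2, 3, 1, 2, 1, 2, 4, 2, 1], 3)) (.lf ([], 0)) (.lf ([], 0))) (.lf ([2, 1, 2, 0, 1, 2, 1, 2, 1, 2], 1)) (.lf ([2, 3, 1, 2, 1, 2, 3, 2, 1, 2, 1, 2, 3, 2], 1)) (.lf ([4, 3, 2, 1, 2, 4, 3, 2, 1, 2, 3, 4, 2, 1, 2, 3, 4, 2, 1],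 2)))) (.nd (.nd (.nd (.lf ([3], 3)) (.lf ([4, 3, 2, 1, 2, 3, 4, 2, 1, 2, 3, 4, 2, 1, 2, 4, 3, 2, 1], 2)) (.lf ([], 0)) (.lf ([], 0))) (.nd (.lf ([3, 2, 3, 2, 3], 2)) (.lf ([3, 1, 2, 1, 2, 4, 2, 3, 1, 2, 1, 2, 4, 2, 1, 3, 2, 1, 2, 4], 2)) (.lf ([], 0)) (.lf ([], 0))) (.lf ([1, 2, 3, 2, 1, 2, 1, 2, 3, 2, 1, 2, 3, 1], 2)) (.lf ([2, 3, 4, 2, 1, 2, 3, 4, 2, 1, 2, 4, 3, 2, 1, 2, 4, 3, 2], 1))) (.nd (.nd (.lf ([2, 0, 2], 0)) (.lf ([2, 1, 2, 4, 2, 1, 3, 2, 1, 2, 4, 2, 3, 1, 2, 1, 2, 4, 2, 3], 1)) (.lf ([], 0)) (.lf ([], 0))) (.nd (.lf ([1, 2, 1, 2, 1, 2, 1, 2, 1, 2], 0)) (.lf ([2, 4, 2, 3, 1, 2, 1, 2, 4, 2, 1, 3, 2, 1, 2, 4, 2, 3, 1, 2], 1)) (.lf ([], 0)) (.lf ([], 0))) (.lf ([1, 2, 1, 2, 3, 2, 1, 2, 3, 1, 2, 1, 2, 3], 2)) (.lf ([1,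 2, 3, 4, 2, 1, 2, 4, 3, 2, 1, 2, 4, 3, 2, 1, 2, 3, 4], 2))) (.nd (.nd (.lf ([4, 0, 4], 0)) (.lf ([2, 1, 3, 2, 1, 2, 4, 2, 3, 1, 2, 1, 2, 4, 2, 3, 1, 2, 1, 2], 4)) (.lf ([], 0)) (.lf ([], 0))) (.nd (.lf ([1, 2, 1, 2, 1, 2, 0, 1, 2, 1], 2)) (.lf ([1, 2, 1, 2, 4, 2, 1, 3, 2, 1, 2, 4, 2, 3, 1, 2, 1, 2, 4, 2], 3)) (.lf ([], 0)) (.lf ([], 0))) (.lf ([3, 2, 1, 2, 3, 1, 2, 1, 2, 3, 2, 1, 2, 1], 2)) (.lf ([2, 1, 2, 4, 3, 2, 1, 2, 4, 3, 2, 1, 2, 3, 4, 2, 1, 2, 3], 4))) (.nd (.nd (.lf ([4, 1, 4], 1)) (.lf ([1, 2, 4, 2, 3, 1, 2, 1, 2, 4, 2, 3, 1, 2, 1, 2, 4, 2, 1, 3], 2)) (.lf ([], 0)) (.lf ([], 0))) (.lf ([1, 2, 0, 1, 2, 1, 2, 1, 2, 1], 2)) (.lf ([3, 1, 2, 1, 2, 3, 2, 1, 2, 1, 2, 3, 2, 1], 2)) (.lf ([3, 2, 1, 2, 4, 3, 2, 1, 2, 3, 4, 2,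 1, 2, 3, 4, 2, 1, 2], 4)))))
noncomputable def rotsF (r : Nat) : List Nat × Nat := Tr.get rotT r
def rotL : List (List Nat × Nat) := [([0], 0), ([1], 1), ([2], 2), ([3], 3), ([4], 4), ([1, 0, 1], 0), ([0, 1, 0], 1), ([2, 0, 2], 0), ([0, 2, 0], 2), ([3, 0, 3], 0), ([0, 3, 0], 3), ([4, 0, 4], 0), ([0, 4, 0], 4), ([3, 1, 3], 1), ([1, 3, 1], 3), ([4, 1, 4], 1), ([1, 4, 1], 4), ([4, 3, 4], 3), ([3, 4, 3], 4), ([3, 2, 3, 2, 3], 2), ([2, 3, 2, 3, 2], 3), ([4, 2, 4, 2, 4], 2), ([2, 4, 2, 4, 2], 4), ([1, 2, 1, 2, 1, 2, 1, 2, 1, 2], 0), ([2, 1, 2, 1, 2, 1, 2, 1, 2, 0], 1), ([1, 2, 1, 2, 1, 2, 1, 2, 0, 1], 2), ([2, 1, 2, 1, 2, 1, 2, 0, 1, 2], 1), ([1, 2, 1, 2, 1, 2, 0, 1, 2, 1], 2), ([2, 1, 2, 1, 2, 0, 1, 2, 1, 2], 1), ([1, 2, 1, 2, 0,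 1, 2, 1, 2, 1], 2), ([2, 1, 2, 0, 1, 2, 1, 2, 1, 2], 1), ([1, 2, 0, 1, 2, 1, 2, 1, 2, 1], 2), ([2, 0, 1, 2, 1, 2, 1, 2, 1, 2], 1), ([0, 1, 2, 1, 2, 1, 2, 1, 2, 1], 2), ([2, 1, 2, 3, 2, 1, 2, 1, 2, 3, 2, 1, 2, 3], 1), ([1, 2, 3, 2, 1, 2, 1, 2, 3, 2, 1, 2, 3, 1], 2), ([2, 3, 2, 1, 2, 1, 2, 3, 2, 1, 2, 3, 1, 2], 1), ([3, 2, 1, 2, 1, 2, 3, 2, 1, 2, 3, 1, 2, 1], 2), ([2, 1, 2, 1, 2, 3, 2, 1, 2, 3, 1, 2, 1, 2], 3), ([1, 2, 1, 2, 3, 2, 1, 2, 3, 1, 2, 1, 2, 3], 2), ([2, 1, 2, 3, 2, 1, 2, 3, 1, 2, 1, 2, 3, 2], 1), ([1, 2, 3, 2, 1, 2, 3, 1, 2, 1, 2, 3, 2, 1], 2), ([2, 3, 2, 1, 2, 3, 1, 2, 1, 2, 3, 2, 1, 2], 1), ([3, 2, 1, 2, 3, 1, 2, 1, 2, 3, 2, 1, 2, 1], 2), ([2, 1, 2, 3, 1, 2, 1, 2, 3, 2, 1, 2, 1, 2], 3), ([1, 2, 3, 1, 2, 1, 2, 3,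 2, 1, 2, 1, 2, 3], 2), ([2, 3, 1, 2, 1, 2, 3, 2, 1, 2, 1, 2, 3, 2], 1), ([3, 1, 2, 1, 2, 3, 2, 1, 2, 1, 2, 3, 2, 1], 2), ([1, 2, 1, 2, 3, 2, 1, 2, 1, 2, 3, 2, 1, 2], 3), ([2, 1, 2, 1, 2, 1, 2, 1, 2, 1, 2, 1, 2, 1, 2, 1, 2, 1, 2], 1), ([1, 2, 1, 2, 1, 2, 1, 2, 1, 2, 1, 2, 1, 2, 1, 2, 1, 2, 1], 2), ([2, 3, 4, 2, 1, 2, 3, 4, 2, 1, 2, 4, 3, 2, 1, 2, 4, 3, 2], 1), ([3, 4, 2, 1, 2, 3, 4, 2, 1, 2, 4, 3, 2, 1, 2, 4, 3, 2, 1], 2), ([4, 2, 1, 2, 3, 4, 2, 1, 2, 4, 3, 2, 1, 2, 4, 3, 2, 1, 2], 3), ([2, 1, 2, 3, 4, 2, 1, 2, 4, 3, 2, 1, 2, 4, 3, 2, 1, 2, 3], 4), ([1, 2, 3, 4, 2, 1, 2, 4, 3, 2, 1, 2, 4, 3, 2, 1, 2, 3, 4], 2), ([2, 3, 4, 2, 1, 2, 4, 3, 2, 1, 2, 4, 3, 2, 1, 2, 3, 4, 2], 1), ([3, 4, 2, 1, 2, 4, 3, 2, 1, 2, 4, 3, 2, 1, 2, 3, 4,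 2, 1], 2), ([4, 2, 1, 2, 4, 3, 2, 1, 2, 4, 3, 2, 1, 2, 3, 4, 2, 1, 2], 3), ([2, 1, 2, 4, 3, 2, 1, 2, 4, 3, 2, 1, 2, 3, 4, 2, 1, 2, 3], 4), ([1, 2, 4, 3, 2, 1, 2, 4, 3, 2, 1, 2, 3, 4, 2, 1, 2, 3, 4], 2), ([2, 4, 3, 2, 1, 2, 4, 3, 2, 1, 2, 3, 4, 2, 1, 2, 3, 4, 2], 1), ([4, 3, 2, 1, 2, 4, 3, 2, 1, 2, 3, 4, 2, 1, 2, 3, 4, 2, 1], 2), ([3, 2, 1, 2, 4, 3, 2, 1, 2, 3, 4, 2, 1, 2, 3, 4, 2, 1, 2], 4), ([2, 1, 2, 4, 3, 2, 1, 2, 3, 4, 2, 1, 2, 3, 4, 2, 1, 2, 4], 3), ([1, 2, 4, 3, 2, 1, 2, 3, 4, 2, 1, 2, 3, 4, 2, 1, 2, 4, 3], 2), ([2, 4, 3, 2, 1, 2, 3, 4, 2, 1, 2, 3, 4, 2, 1, 2, 4, 3, 2], 1), ([4, 3, 2, 1, 2, 3, 4, 2, 1, 2, 3, 4, 2, 1, 2, 4, 3, 2, 1], 2), ([3, 2, 1, 2, 3, 4, 2, 1, 2, 3, 4, 2, 1, 2, 4, 3, 2, 1, 2], 4), ([2, 1, 2, 3, 4, 2,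 1, 2, 3, 4, 2, 1, 2, 4, 3, 2, 1, 2, 4], 3), ([1, 2, 3, 4, 2, 1, 2, 3, 4, 2, 1, 2, 4, 3, 2, 1, 2, 4, 3], 2), ([2, 1, 2, 4, 2, 1, 3, 2, 1, 2, 4, 2, 3, 1, 2, 1, 2, 4, 2, 3], 1), ([1, 2, 4, 2, 1, 3, 2, 1, 2, 4, 2, 3, 1, 2, 1, 2, 4, 2, 3, 1], 2), ([2, 4, 2, 1, 3, 2, 1, 2, 4, 2, 3, 1, 2, 1, 2, 4, 2, 3, 1, 2], 1), ([4, 2, 1, 3, 2, 1, 2, 4, 2, 3, 1, 2, 1, 2, 4, 2, 3, 1, 2, 1], 2), ([2, 1, 3, 2, 1, 2, 4, 2, 3, 1, 2, 1, 2, 4, 2, 3, 1, 2, 1, 2], 4), ([1, 3, 2, 1, 2, 4, 2, 3, 1, 2, 1, 2, 4, 2, 3, 1, 2, 1, 2, 4], 2), ([3, 2, 1, 2, 4, 2, 3, 1, 2, 1, 2, 4, 2, 3, 1, 2, 1, 2, 4, 2], 1), ([2, 1, 2, 4, 2, 3, 1, 2, 1, 2, 4, 2, 3, 1, 2, 1, 2, 4, 2, 1], 3), ([1, 2, 4, 2, 3, 1, 2, 1, 2, 4, 2, 3, 1, 2, 1, 2, 4, 2, 1, 3], 2), ([2, 4, 2, 3, 1, 2, 1,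 2, 4, 2, 3, 1, 2, 1, 2, 4, 2, 1, 3, 2], 1), ([4, 2, 3, 1, 2, 1, 2, 4, 2, 3, 1, 2, 1, 2, 4, 2, 1, 3, 2, 1], 2), ([2, 3, 1, 2, 1, 2, 4, 2, 3, 1, 2, 1, 2, 4, 2, 1, 3, 2, 1, 2], 4), ([3, 1, 2, 1, 2, 4, 2, 3, 1, 2, 1, 2, 4, 2, 1, 3, 2, 1, 2, 4], 2), ([1, 2, 1, 2, 4, 2, 3, 1, 2, 1, 2, 4, 2, 1, 3, 2, 1, 2, 4, 2], 3), ([2, 1, 2, 4, 2, 3, 1, 2, 1, 2, 4, 2, 1, 3, 2, 1, 2, 4, 2, 3], 1), ([1, 2, 4, 2, 3, 1, 2, 1, 2, 4, 2, 1, 3, 2, 1, 2, 4, 2, 3, 1], 2), ([2, 4, 2, 3, 1, 2, 1, 2, 4, 2, 1, 3, 2, 1, 2, 4, 2, 3, 1, 2], 1), ([4, 2, 3, 1, 2, 1, 2, 4, 2, 1, 3, 2, 1, 2, 4, 2, 3, 1, 2, 1], 2), ([2, 3, 1, 2, 1, 2, 4, 2, 1, 3, 2, 1, 2, 4, 2, 3, 1, 2, 1, 2], 4), ([3, 1, 2, 1, 2, 4, 2, 1, 3, 2, 1, 2, 4, 2, 3, 1, 2, 1, 2, 4], 2), ([1, 2, 1, 2, 4, 2,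 1, 3, 2, 1, 2, 4, 2, 3, 1, 2, 1, 2, 4, 2], 3)]
def subL : List (List Nat × Nat × List Nat) := [([1], 2, [])]
def subsF (s : Nat) : List Nat × Nat × List Nat := subL.getD s ([], 5, [])
def rels : List (List Nat) := [[0, 0], [1, 1], [2, 2], [3, 3], [4, 4], [1, 2, 1, 2, 1, 2, 1, 2, 1, 2, 1, 2, 1, 2, 1, 2, 1, 2, 1, 2], [2, 3, 2, 3, 2, 3], [2, 4, 2, 4, 2, 4], [0, 1, 0, 1], [0, 2, 0, 2], [0, 3, 0, 3], [0, 4, 0, 4], [1, 3, 1, 3], [1, 4, 1, 4], [3, 4, 3, 4], [0, 1, 2, 1, 2, 1, 2, 1, 2, 1, 2], [1, 2, 3, 4, 2, 1, 2, 3, 4, 2, 1, 2, 4, 3, 2, 1, 2, 4, 3, 2], [1, 2, 1, 2, 3, 2, 1, 2, 1, 2, 3, 2, 1, 2, 3], [1, 2, 1, 2, 4, 2, 1, 3, 2, 1, 2, 4, 2, 3, 1, 2, 1, 2, 4, 2, 3]]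
def subs : List (List Nat) := [[1, 2]]
def N : Nat := 384
def nc : Nat := 5
def md : Nat := 512
def nrots : Nat := 92

abbrev OKE (i l : Nat) : Prop := okEdge 384 512 128 65536 invF ent parF pletF 92 rotsF subsF i l = true
abbrev OKR (lo n : Nat) : Prop := okRows 384 5 512 128 65536 invF ent parF pletF 92 rotsF subsF lo n = true
abbrev OKT (lo n : Nat) : Prop := okTree 384 parF lo n = true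

end Cfsg.Agent.Helper19.SpK
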